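import Groth.Agent.ResProp.EF.K5.Tw
import Groth.Agent.ResProp.EF.K118.TwC

/-!
# `K118.TwC.tw` and `K5.tw` (S16912, G6c, [TW], helper5)

The two texts of the twist by a comodule are isomorphic by the identity on underlying objects (`cmp`); the shear
`sigma118 : K118.TwC.tw s (regular) ≅ forget ⋙ cofree`.
-/

set_option autoImplicit false
set_option linter.dupNamespace false

open CategoryTheory CategoryTheory.Limits Opposite TensorProduct

noncomputable section

namespace Groth.Agent.ResProp.EF.K5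

open K784.BC K784.PM K741.RP EF56 K742 K118

universe w w' u

theorem Q_eq_bbL {k R : Type u} [CommRing k] [CommRing R] (κ : k →+* R) {M : Type u} [AddCommGroup M] [Module R M]
    {O : Type u} [CommRing O] [Bialgebra k O] {W : Type u} [AddCommGroup W] [Module k W] (x : TM κ M O)
    (z : W ⊗[k] O) : TwC.Q κ x z = bbL κ x z := by
  induction x using TM.induction with
  | zero => rw [map_zero, AddMonoidHom.zero_apply, bbL_zero_left]
  | tm m a =>
    rw [TwC.Q_tm]
    induction z using TensorProduct.induction_on with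
    | zero => rw [map_zero, map_zero, bbL_zero_right]
    | tmul v c => rw [TwC.mo_tmul, TwC.J_tmul, bbL_tm]
    | add z z' hz hz' => rw [map_add, map_add, bbL_add_right, hz, hz']
  | add x y hx hy => rw [map_add, AddMonoidHom.add_apply, bbL_add_left, hx, hy]

variable {k : Type u} [CommRing k] {A : NFᵒᵖ ⥤ CommRingCat.{u}} (s : KS k A)

section Bi

variable {O : Type u} [CommRing O] [Bialgebra k O]
variable {W : Type u} [AddCommGroup W] [Module k W] (F : HopfRep.Comod k O W)
  {W' : Type u} [AddCommGroup W'] [Module k W'] (F' : HopfRep.Comod k O W')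

/-- the two coactions are equal -/
theorem tw_a_eq (M : (GO s O).Coalgebra) : ((TwC.tw s F).obj M).a = ((tw s F).obj M).a := by
  apply ObjectProperty.hom_ext
  refine tens_ext s fun X m w => ?_
  refine (congrArg (TwC.str (s.κ X) (M.A.obj.obj X) F)
    (tensPmap_tm s M.a.hom (LinearMap.id : W →ₗ[k] W) X m w)).trans ?_
  exact (TwC.str_tm (s.κ X) F _ _).trans (Q_eq_bbL (s.κ X) _ _)

/-- the coaction of `K118.TwC.tw` at a level -/
theorem lv_tw118 (M : (GO s O).Coalgebra) (X : NFᵒᵖ) (x : TM (s.κ X) (M.A.obj.obj X) W) :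
    lv ((TwC.tw s F).obj M).a.hom X x = twL F (isCo s M X) x := by
  rw [tw_a_eq]
  rfl

theorem lv_tw118_tm (M : (GO s O).Coalgebra) (X : NFᵒᵖ) (m : M.A.obj.obj X) (w : W) :
    lv ((TwC.tw s F).obj M).a.hom X (TM.tm (s.κ X) m w) = bbL (s.κ X) (lv M.a.hom X m) (F.coact w) :=
  lv_tw118 s F M X (TM.tm (s.κ X) m w)

/-- **the two texts of the twist agree** -/
def cmp : TwC.tw s F ≅ tw s F :=
  NatIso.ofComponents (fun M => Comonad.Coalgebra.isoMk (Iso.refl ((tensC s W).obj M.A)) (by
    refine (congrArg (fun t => ((TwC.tw s F).obj M).a ≫ t) ((GO s O).map_id ((tensC s W).obj M.A))).trans ?_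
    refine (Category.comp_id (((TwC.tw s F).obj M).a)).trans ?_
    exact (tw_a_eq s F M).trans (Category.id_comp (((tw s F).obj M).a)).symm)) fun {M N} f => by
      apply Comonad.Coalgebra.Hom.ext'
      change (tensC s W).map f.f ≫ 𝟙 ((tensC s W).obj N.A) = 𝟙 ((tensC s W).obj M.A) ≫ (tensC s W).map f.f
      rw [Category.comp_id, Category.id_comp]

theorem cmp_hom_app_f (M : (GO s O).Coalgebra) : ((cmp s F).hom.app M).f = 𝟙 ((tensC s W).obj M.A) := rfl

theorem cmp_inv_app_f (M : (GO s O).Coalgebra) : ((cmp s F).inv.app M).f = 𝟙 ((tensC s W).obj M.A) := rfl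

theorem cmp_nat (g : W →ₗ[k] W') (hg : ∀ w, F'.coact (g w) = g.rTensor O (F.coact w)) :
    TwC.twMap s F F' g hg ≫ (cmp s F').hom = (cmp s F).hom ≫ twMap s F F' g hg := by
  ext M : 2
  apply Comonad.Coalgebra.Hom.ext'
  change (tensMap s g).app M.A ≫ 𝟙 ((tensC s W').obj M.A) = 𝟙 ((tensC s W).obj M.A) ≫ (tensMap s g).app M.A
  rw [Category.comp_id, Category.id_comp]

end Bi

section Hopf

variable {O : Type u} [CommRing O] [HopfAlgebra k O]

/-- **the shear** for `K118.TwC.tw` -/
def sigma118 : TwC.tw s (HopfRep.Comod.regular k O) ≅ (GO s O).forget ⋙ (GO s O).cofree :=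
  cmp s (HopfRep.Comod.regular k O) ≪≫ sigma s

theorem lv_sigma118 (M : (GO s O).Coalgebra) (X : NFᵒᵖ) (x : TM (s.κ X) (M.A.obj.obj X) O) :
    lv ((sigma118 s).hom.app M).f.hom X x = shL (isCo s M X) x := rfl

theorem sigma118_eps (M : (GO s O).Coalgebra) :
    ((sigma118 s).hom.app M).f ≫ (GO s O).ε.app M.A = (GO s O).ε.app M.A :=
  sigma_eps s M

end Hopf

end Groth.Agent.ResProp.EF.K5

end
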