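import Groth.Agent.ResProp.EF.K742.Bicom
import Groth.Agent.ResProp.EF.K679.TwMod

/-!
# Twists at one level (S16912, G6c, [TW], helper5)

`κ : k → R`, `M` an `R`-module, `O` a `k`-bialgebra, `W` an `O`-comodule over `k`.  For an `R`-linear coaction
`ρ : M → M ⊗_k O = TM κ M O` satisfying the two laws in the form of `epsL` / `delL`:
* `coK` : the `O`-comodule over `k` on `M`;
* `twL` : the `R`-linear diagonal coaction on `M ⊗_k W`, its laws `epsL_twL`, `delL_twL` and `twL_nat` (morphisms),
  `smap_twL` (change of rings);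
* `shL`, `shLinv` : the shear.
-/

set_option autoImplicit false
set_option linter.dupNamespace false

open TensorProduct

noncomputable section

namespace Groth.Agent.ResProp.EF.K5

open K742 K679.Tw

universe u

variable {k R : Type u} [CommRing k] [CommRing R] (κ : k →+* R)

/-! ### `TM` in terms of the usual tensor product -/
section Conv

variable {M : Type u} [AddCommGroup M] [Module R M] {M' : Type u} [AddCommGroup M'] [Module R M']
  {W : Type u} [AddCommGroup W] [Module k W] {W' : Type u} [AddCommGroup W'] [Module k W']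

/-- an `R`-linear map as a `k`-linear map -/
def rk (f : M →ₗ[R] M') : @LinearMap k k _ _ (RingHom.id k) M M' _ _ (Module.compHom M κ) (Module.compHom M' κ) :=
  letI : Module k M := Module.compHom M κ
  letI : Module k M' := Module.compHom M' κ
  { toFun := f
    map_add' := map_add f
    map_smul' := fun c m => f.map_smul (κ c) m }

theorem rk_apply (f : M →ₗ[R] M') (m : M) :
    letI : Module k M := Module.compHom M κ
    letI : Module k M' := Module.compHom M' κ
    rk κ f m = f m := rfl

/-- `TM.map` is the usual map of tensor products -/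
theorem map_eq (f : M →ₗ[R] M') (g : W →ₗ[k] W') (x : TM κ M W) :
    TM.map κ f g x =
      (letI : Module k M := Module.compHom M κ
       letI : Module k M' := Module.compHom M' κ
       TensorProduct.map (rk κ f) g x) := by
  let _ : Module k M := Module.compHom M κ
  let _ : Module k M' := Module.compHom M' κ
  induction x using TM.induction with
  | zero => rw [map_zero]; exact (map_zero (TensorProduct.map (rk κ f) g)).symm
  | tm m w => rw [TM.map_tm]; rfl
  | add x y hx hy => rw [map_add, hx, hy]; exact (map_add (TensorProduct.map (rk κ f) g) _ _).symm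

end Conv

/-! ### Comodule laws -/
section Co

variable {O : Type u} [CommRing O] [Bialgebra k O] {M : Type u} [AddCommGroup M] [Module R M]

theorem epsL_eq (x : TM κ M O) : epsL O κ M x =
    (letI : Module k M := Module.compHom M κ
     TensorProduct.rid k M ((CoalgebraStruct.counit (R := k) (A := O)).lTensor M x)) := by
  let _ : Module k M := Module.compHom M κ
  induction x using TM.induction with
  | zero => rw [map_zero]; exact (map_zero ((TensorProduct.rid k M).toLinearMap ∘ₗ
      (CoalgebraStruct.counit (R := k) (A := O)).lTensor M)).symm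
  | tm m w =>
    rw [epsL_tm]
    change _ = TensorProduct.rid k M ((CoalgebraStruct.counit (R := k) (A := O)).lTensor M (m ⊗ₜ[k] w))
    rw [LinearMap.lTensor_tmul, TensorProduct.rid_tmul]
    rfl
  | add x y hx hy => rw [map_add, hx, hy]; exact (map_add ((TensorProduct.rid k M).toLinearMap ∘ₗ
      (CoalgebraStruct.counit (R := k) (A := O)).lTensor M) _ _).symm

theorem ins_eq (m : M) (z : O ⊗[k] O) : ins O κ m z =
    (letI : Module k M := Module.compHom M κ
     (TensorProduct.assoc k M O O).symm (m ⊗ₜ[k] z)) := by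
  let _ : Module k M := Module.compHom M κ
  induction z using TensorProduct.induction_on with
  | zero =>
    rw [map_zero]
    exact (map_zero ((TensorProduct.assoc k M O O).symm.toLinearMap ∘ₗ TensorProduct.mk k M (O ⊗[k] O) m)).symm
  | tmul a b => rfl
  | add x y hx hy =>
    rw [map_add, hx, hy]
    exact (map_add ((TensorProduct.assoc k M O O).symm.toLinearMap ∘ₗ TensorProduct.mk k M (O ⊗[k] O) m) _ _).symm

theorem delL_eq (x : TM κ M O) : delL O κ M x =
    (letI : Module k M := Module.compHom M κ
     (TensorProduct.assoc k M O O).symm ((CoalgebraStruct.comul (R := k) (A := O)).lTensor M x)) := by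
  let _ : Module k M := Module.compHom M κ
  induction x using TM.induction with
  | zero => rw [map_zero]; exact (map_zero ((TensorProduct.assoc k M O O).symm.toLinearMap ∘ₗ
      (CoalgebraStruct.comul (R := k) (A := O)).lTensor M)).symm
  | tm m w =>
    rw [delL_tm, ins_eq]
    rfl
  | add x y hx hy => rw [map_add, hx, hy]; exact (map_add ((TensorProduct.assoc k M O O).symm.toLinearMap ∘ₗ
      (CoalgebraStruct.comul (R := k) (A := O)).lTensor M) _ _).symm

/-- the two laws of a coaction, in the form they have for the comonad `- ⊗ O` -/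
structure IsCo (ρ : M →ₗ[R] TM κ M O) : Prop where
  eps : ∀ m, epsL O κ M (ρ m) = m
  del : ∀ m, delL O κ M (ρ m) = TM.map κ ρ (LinearMap.id : O →ₗ[k] O) (ρ m)

variable {κ}

/-- the `O`-comodule over `k` of a coaction -/
@[reducible] def coK {ρ : M →ₗ[R] TM κ M O} (h : IsCo κ ρ) :
    letI : Module k M := Module.compHom M κ
    HopfRep.Comod k O M :=
  letI : Module k M := Module.compHom M κ
  { coact := rk κ ρ
    coassoc := by
      apply LinearMap.ext
      intro m
      have e := h.del m
      rw [delL_eq, map_eq] at e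
      have e2 := congrArg (TensorProduct.assoc k M O O) e
      change _ = TensorProduct.assoc k M O O _ at e2
      refine Eq.trans ?_ (e2.symm.trans ?_)
      · rfl
      · exact (TensorProduct.assoc k M O O).apply_symm_apply _
    counit_comp := by
      apply LinearMap.ext
      intro m
      have e := h.eps m
      rw [epsL_eq] at e
      have e2 := congrArg (TensorProduct.rid k M).symm e
      refine Eq.trans ?_ (e2.trans ?_)
      · exact ((TensorProduct.rid k M).symm_apply_apply _).symm
      · exact TensorProduct.rid_symm_apply m }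

theorem coK_coact {ρ : M →ₗ[R] TM κ M O} (h : IsCo κ ρ) (m : M) :
    (letI : Module k M := Module.compHom M κ
     (coK h).coact m) = ρ m := rfl

end Co

/-! ### The twist -/
section Tw

variable {κ} {O : Type u} [CommRing O] [Bialgebra k O] {M : Type u} [AddCommGroup M] [Module R M]
  {W : Type u} [AddCommGroup W] [Module k W] (F : HopfRep.Comod k O W)

variable (κ) in
/-- `(m ⊗ a, w ⊗ b) ↦ (m ⊗ w) ⊗ ab` -/
def bbL (z : TM κ M O) (t : W ⊗[k] O) : TM κ (TM κ M W) O :=
  letI : Module k M := Module.compHom M κ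
  bb (k := k) (z ⊗ₜ[k] t)

theorem bbL_tm (m : M) (a : O) (w : W) (b : O) :
    bbL κ (TM.tm κ m a) (w ⊗ₜ[k] b) = TM.tm κ (TM.tm κ m w) (a * b) := by
  let _ : Module k M := Module.compHom M κ
  exact bb_tmul m a w b

theorem bbL_add_left (z z' : TM κ M O) (t : W ⊗[k] O) : bbL κ (z + z') t = bbL κ z t + bbL κ z' t := by
  let _ : Module k M := Module.compHom M κ
  exact (congrArg (bb (k := k)) (TensorProduct.add_tmul (M := M ⊗[k] O) z z' t)).trans
    (map_add (bb (k := k) (O := O) (V := M) (W := W)) _ _)

theorem bbL_add_right (z : TM κ M O) (t t' : W ⊗[k] O) : bbL κ z (t + t') = bbL κ z t + bbL κ z t' := by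
  let _ : Module k M := Module.compHom M κ
  exact (congrArg (bb (k := k)) (TensorProduct.tmul_add (M := M ⊗[k] O) z t t')).trans
    (map_add (bb (k := k) (O := O) (V := M) (W := W)) _ _)

theorem bbL_zero_left (t : W ⊗[k] O) : bbL κ (0 : TM κ M O) t = 0 := by
  have := bbL_add_left (0 : TM κ M O) 0 t
  rw [add_zero] at this
  exact left_eq_add.mp this

theorem bbL_zero_right (z : TM κ M O) : bbL κ z (0 : W ⊗[k] O) = 0 := by
  have := bbL_add_right z (0 : W ⊗[k] O) 0
  rw [add_zero] at this
  exact left_eq_add.mp this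

/-- **the diagonal coaction on `M ⊗ W`**, `R`-linear -/
def twL {ρ : M →ₗ[R] TM κ M O} (h : IsCo κ ρ) : TM κ M W →ₗ[R] TM κ (TM κ M W) O :=
  letI := κ.toAlgebra
  letI : Module k M := Module.compHom M κ
  haveI : IsScalarTower k R M := towerAux κ M
  { toFun := fun x => (ComodTens.Comod.tensor (coK h) F).coact x
    map_add' := map_add _
    map_smul' := fun r x => tensor_smul (A := R) (coK h) F (fun r m => ρ.map_smul r m) r x }

variable {ρ : M →ₗ[R] TM κ M O} (h : IsCo κ ρ)

theorem twL_apply (x : TM κ M W) : twL F h x =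
    (letI : Module k M := Module.compHom M κ
     (ComodTens.Comod.tensor (coK h) F).coact x) := rfl

theorem twL_tm (m : M) (w : W) : twL F h (TM.tm κ m w) = bbL κ (ρ m) (F.coact w) := rfl

theorem isCo_twL : IsCo κ (twL F h) where
  eps x := by
    let _ : Module k M := Module.compHom M κ
    rw [epsL_eq]
    have e := LinearMap.congr_fun (ComodTens.Comod.tensor (coK h) F).counit_comp x
    refine Eq.trans (congrArg (TensorProduct.rid k (M ⊗[k] W)) e) ?_
    exact (TensorProduct.rid_tmul (M := M ⊗[k] W) x (1 : k)).trans (@one_smul k (M ⊗[k] W) _ _ x)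
  del x := by
    let _ : Module k M := Module.compHom M κ
    rw [delL_eq, map_eq]
    have e := LinearMap.congr_fun (ComodTens.Comod.tensor (coK h) F).coassoc x
    refine Eq.trans (congrArg (TensorProduct.assoc k (M ⊗[k] W) O O).symm e.symm) ?_
    exact (TensorProduct.assoc k (M ⊗[k] W) O O).symm_apply_apply _

/-! naturality -/
section Nat

variable {M' : Type u} [AddCommGroup M'] [Module R M'] {ρ' : M' →ₗ[R] TM κ M' O} (h' : IsCo κ ρ')
  {W' : Type u} [AddCommGroup W'] [Module k W'] (F' : HopfRep.Comod k O W')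

theorem twL_nat (f : M →ₗ[R] M') (g : W →ₗ[k] W') (hf : ∀ m, ρ' (f m) = TM.map κ f (LinearMap.id : O →ₗ[k] O) (ρ m))
    (hg : ∀ w, F'.coact (g w) = g.rTensor O (F.coact w)) (x : TM κ M W) :
    twL F' h' (TM.map κ f g x) = TM.map κ (TM.map κ f g) (LinearMap.id : O →ₗ[k] O) (twL F h x) := by
  let _ : Module k M := Module.compHom M κ
  let _ : Module k M' := Module.compHom M' κ
  have e : @Eq ((M ⊗[k] W) →ₗ[k] (M' ⊗[k] W')) (rk κ (TM.map κ f g)) (TensorProduct.map (rk κ f) g) :=
    @LinearMap.ext k k (M ⊗[k] W) (M' ⊗[k] W') _ _ _ _ _ _ _ _ _ fun x => map_eq κ f g x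
  have e1 := tensor_nat (coK h) (coK h') F F' (rk κ f) g (fun m => (hf m).trans (map_eq κ f _ _)) hg x
  refine (congrArg (twL F' h') (map_eq κ f g x)).trans (e1.trans ?_)
  refine (congrArg (fun t : (M ⊗[k] W) →ₗ[k] (M' ⊗[k] W') => t.rTensor O ((ComodTens.Comod.tensor (coK h) F).coact x))
    e.symm).trans ?_
  exact (map_eq κ (TM.map κ f g) (LinearMap.id : O →ₗ[k] O) (twL F h x)).symm

variable {S : Type u} [CommRing S] (κ' : k →+* S) (φ : R →+* S) (hφ : ∀ c, φ (κ c) = κ' c)
variable {N : Type u} [AddCommGroup N] [Module S N] {σ : N →ₗ[S] TM κ' N O} (hσ : IsCo κ' σ)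

/-- a semilinear map, as a `k`-linear map -/
def sk (f : M →+ N) (hf : ∀ (r : R) (m : M), f (r • m) = φ r • f m) :
    @LinearMap k k _ _ (RingHom.id k) M N _ _ (Module.compHom M κ) (Module.compHom N κ') :=
  letI : Module k M := Module.compHom M κ
  letI : Module k N := Module.compHom N κ'
  { toFun := f
    map_add' := map_add f
    map_smul' := fun c m => (hf (κ c) m).trans (congrArg (fun t : S => t • f m) (hφ c)) }

/-- `TM.smap` is the usual map of tensor products -/
theorem smap_eq (f : M →+ N) (hf : ∀ (r : R) (m : M), f (r • m) = φ r • f m) (x : TM κ M W) :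
    TM.smap κ' φ hφ f hf x =
      (letI : Module k M := Module.compHom M κ
       letI : Module k N := Module.compHom N κ'
       (sk κ' φ hφ f hf).rTensor W x) := by
  let _ : Module k M := Module.compHom M κ
  let _ : Module k N := Module.compHom N κ'
  induction x using TM.induction with
  | zero => rw [map_zero]; exact (map_zero ((sk κ' φ hφ f hf).rTensor W)).symm
  | tm m w =>
    rw [TM.smap_tm]
    rfl
  | add x y hx hy => rw [map_add, hx, hy]; exact (map_add ((sk κ' φ hφ f hf).rTensor W) _ _).symm

theorem twL_smap (f : M →+ N) (hf : ∀ (r : R) (m : M), f (r • m) = φ r • f m)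
    (hc : ∀ m, σ (f m) = TM.smap κ' φ hφ f hf (ρ m)) (x : TM κ M W) :
    twL F hσ (TM.smap κ' φ hφ f hf x) =
      TM.smap κ' φ hφ (TM.smap (W := W) κ' φ hφ f hf) (TM.smap_smul κ' φ hφ f hf) (twL F h x) := by
  let _ : Module k M := Module.compHom M κ
  let _ : Module k N := Module.compHom N κ'
  have e : @Eq ((M ⊗[k] W) →ₗ[k] (N ⊗[k] W)) (sk κ' φ hφ (TM.smap (W := W) κ' φ hφ f hf) (TM.smap_smul κ' φ hφ f hf))
      ((sk κ' φ hφ f hf).rTensor W) :=
    @LinearMap.ext k k (M ⊗[k] W) (N ⊗[k] W) _ _ _ _ _ _ _ _ _ fun x => smap_eq κ' φ hφ f hf x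
  have e1 := tensor_nat (coK h) (coK hσ) F F (sk κ' φ hφ f hf) (LinearMap.id : W →ₗ[k] W)
    (fun m => (hc m).trans (smap_eq κ' φ hφ f hf _)) (fun w => by rw [LinearMap.rTensor_id]; rfl) x
  refine (congrArg (twL F hσ) (smap_eq κ' φ hφ f hf x)).trans (e1.trans ?_)
  refine (congrArg (fun t : (M ⊗[k] W) →ₗ[k] (N ⊗[k] W) => t.rTensor O ((ComodTens.Comod.tensor (coK h) F).coact x))
    e.symm).trans ?_
  exact (smap_eq κ' φ hφ (TM.smap (W := W) κ' φ hφ f hf) (TM.smap_smul κ' φ hφ f hf) (twL F h x)).symm

end Nat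

end Tw

/-! ### The shear -/
section Shear

variable {κ} {O : Type u} [CommRing O] [Bialgebra k O] {M : Type u} [AddCommGroup M] [Module R M]
  {ρ : M →ₗ[R] TM κ M O} (h : IsCo κ ρ)

/-- the shear `m ⊗ x ↦ m₀ ⊗ m₁ x`, `R`-linear -/
def shL : TM κ M O →ₗ[R] TM κ M O :=
  letI := κ.toAlgebra
  letI : Module k M := Module.compHom M κ
  haveI : IsScalarTower k R M := towerAux κ M
  { toFun := fun x => shear (coK h) x
    map_add' := map_add (shear (coK h))
    map_smul' := fun r x => shear_smul (A := R) (coK h) (fun r m => ρ.map_smul r m) r x }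

theorem shL_apply (x : TM κ M O) : shL h x =
    (letI : Module k M := Module.compHom M κ
     shear (coK h) x) := rfl

/-- the shear is a morphism of comodules from `M ⊗ O` (diagonal coaction) to the cofree comodule. -/
theorem shL_hom (x : TM κ M O) : delL O κ M (shL h x) =
    TM.map κ (shL h) (LinearMap.id : O →ₗ[k] O) (twL (HopfRep.Comod.regular k O) h x) := by
  let _ : Module k M := Module.compHom M κ
  rw [delL_eq, map_eq]
  exact shear_hom (coK h) x

theorem epsL_shL (x : TM κ M O) : epsL O κ M (shL h x) = epsL O κ M x := by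
  let _ : Module k M := Module.compHom M κ
  rw [epsL_eq, epsL_eq]
  exact counit_shear (coK h) x

variable {M' : Type u} [AddCommGroup M'] [Module R M'] {ρ' : M' →ₗ[R] TM κ M' O} (h' : IsCo κ ρ')

theorem shL_nat (f : M →ₗ[R] M') (hf : ∀ m, ρ' (f m) = TM.map κ f (LinearMap.id : O →ₗ[k] O) (ρ m)) (x : TM κ M O) :
    shL h' (TM.map κ f (LinearMap.id : O →ₗ[k] O) x) = TM.map κ f (LinearMap.id : O →ₗ[k] O) (shL h x) := by
  let _ : Module k M := Module.compHom M κ
  let _ : Module k M' := Module.compHom M' κ
  rw [map_eq κ f, map_eq κ f]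
  exact shear_nat (coK h) (coK h') (rk κ f) (fun m => (hf m).trans (map_eq κ f _ _)) x

variable {S : Type u} [CommRing S] (κ' : k →+* S) (φ : R →+* S) (hφ : ∀ c, φ (κ c) = κ' c)
variable {N : Type u} [AddCommGroup N] [Module S N] {σ : N →ₗ[S] TM κ' N O} (hσ : IsCo κ' σ)

theorem shL_smap (f : M →+ N) (hf : ∀ (r : R) (m : M), f (r • m) = φ r • f m)
    (hc : ∀ m, σ (f m) = TM.smap κ' φ hφ f hf (ρ m)) (x : TM κ M O) :
    shL hσ (TM.smap κ' φ hφ f hf x) = TM.smap κ' φ hφ f hf (shL h x) := by
  let _ : Module k M := Module.compHom M κ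
  let _ : Module k N := Module.compHom N κ'
  rw [smap_eq κ' φ hφ f hf, smap_eq κ' φ hφ f hf]
  exact shear_nat (coK h) (coK hσ) (sk κ' φ hφ f hf) (fun m => (hc m).trans (smap_eq κ' φ hφ f hf _)) x

end Shear

section ShearInv

variable {κ} {O : Type u} [CommRing O] [HopfAlgebra k O] {M : Type u} [AddCommGroup M] [Module R M]
  {ρ : M →ₗ[R] TM κ M O} (h : IsCo κ ρ)

/-- the shear, an `R`-linear bijection -/
def shE : TM κ M O ≃ₗ[R] TM κ M O :=
  letI := κ.toAlgebra
  letI : Module k M := Module.compHom M κ
  haveI : IsScalarTower k R M := towerAux κ M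
  LinearEquiv.ofLinearMap (shL h)
    { toFun := fun x => shearInv (coK h) x
      map_add' := map_add (shearInv (coK h))
      map_smul' := fun r x => (shearEquiv (A := R) (coK h) (fun r m => ρ.map_smul r m)).symm.map_smul r x }
    (LinearMap.ext fun x => shear_shearInv (coK h) x) (LinearMap.ext fun x => shearInv_shear (coK h) x)

@[simp] theorem shE_apply (x : TM κ M O) : shE h x = shL h x := rfl

theorem shE_symm_apply (x : TM κ M O) : (shE h).symm x =
    (letI : Module k M := Module.compHom M κ
     shearInv (coK h) x) := rfl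

variable {S : Type u} [CommRing S] (κ' : k →+* S) (φ : R →+* S) (hφ : ∀ c, φ (κ c) = κ' c)
variable {N : Type u} [AddCommGroup N] [Module S N] {σ : N →ₗ[S] TM κ' N O} (hσ : IsCo κ' σ)

theorem shE_symm_smap (f : M →+ N) (hf : ∀ (r : R) (m : M), f (r • m) = φ r • f m)
    (hc : ∀ m, σ (f m) = TM.smap κ' φ hφ f hf (ρ m)) (x : TM κ M O) :
    (shE hσ).symm (TM.smap κ' φ hφ f hf x) = TM.smap κ' φ hφ f hf ((shE h).symm x) := by
  apply (shE hσ).injective
  rw [LinearEquiv.apply_symm_apply, shE_apply, shL_smap h κ' φ hφ hσ f hf hc, ← shE_apply,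
    LinearEquiv.apply_symm_apply]

end ShearInv

end Groth.Agent.ResProp.EF.K5

end
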