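import Groth.Agent.ResProp.EF.K742.GO
import Groth.Agent.ResProp.EF.K686.TensCEx
import Groth.Agent.ResProp.EF.K668.CoalgAb
import Groth.Agent.ResProp.EF.K5.TwLev

/-!
# Twists of `(GO s O).Coalgebra` by comodules, and the shear (S16912, G6c, [TW], helper5)

* `tw s F : (GO s O).Coalgebra ⥤ (GO s O).Coalgebra`, underlying functor `tensC s W`, coaction at a level =
  `ComodTens.Comod.tensor` (`K5.twL`), for a comodule `F : HopfRep.Comod k O W`.
* `twMap s F F' g hg : tw s F ⟶ tw s F'` for a morphism of comodules `g`.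
* `sigma s : tw s (HopfRep.Comod.regular k O) ≅ (GO s O).forget ⋙ (GO s O).cofree` for a Hopf algebra `O`.
-/

set_option autoImplicit false
set_option linter.dupNamespace false

open CategoryTheory CategoryTheory.Limits Opposite TensorProduct

noncomputable section

namespace Groth.Agent.ResProp.EF.K5

open K784.BC K784.PM K741.RP EF56 K742

universe w w' u

variable {k : Type u} [CommRing k] {A : NFᵒᵖ ⥤ CommRingCat.{u}} (s : KS k A)

section Bi

variable {O : Type u} [CommRing O] [Bialgebra k O]

/-- the coaction at a level -/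
def rho (M : (GO s O).Coalgebra) (X : NFᵒᵖ) : M.A.obj.obj X →ₗ[A.obj X] TM (s.κ X) (M.A.obj.obj X) O :=
  lv M.a.hom X

theorem rho_nat (M : (GO s O).Coalgebra) {X Y : NFᵒᵖ} (φ : X ⟶ Y) (m : M.A.obj.obj X) :
    rho s M Y (pmap M.A.obj φ m) =
      TM.smap (s.κ Y) (A.map φ).hom (s.nat φ) (pmap M.A.obj φ) (pmap_smul M.A.obj φ) (rho s M X m) :=
  lv_nat M.a.hom φ m

theorem isCo (M : (GO s O).Coalgebra) (X : NFᵒᵖ) : IsCo (s.κ X) (rho s M X) where
  eps m := congrArg (fun f : M.A ⟶ M.A => lv f.hom X m) M.counit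
  del m := congrArg (fun f : M.A ⟶ (tensC s O).obj ((tensC s O).obj M.A) => lv f.hom X m) M.coassoc

theorem rho_hom {M N : (GO s O).Coalgebra} (f : M ⟶ N) (X : NFᵒᵖ) (m : M.A.obj.obj X) :
    rho s N X (lv f.f.hom X m) = TM.map (s.κ X) (lv f.f.hom X) (LinearMap.id : O →ₗ[k] O) (rho s M X m) :=
  (congrArg (fun g : M.A ⟶ (tensC s O).obj N.A => lv g.hom X m) f.h).symm

variable {W : Type u} [AddCommGroup W] [Module k W] (F : HopfRep.Comod k O W)
  {W' : Type u} [AddCommGroup W'] [Module k W'] (F' : HopfRep.Comod k O W')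
  {W'' : Type u} [AddCommGroup W''] [Module k W''] (F'' : HopfRep.Comod k O W'')

/-- the diagonal coaction on `M ⊗ W`, as a morphism of presheaves of modules -/
def twP (M : (GO s O).Coalgebra) : tensPobj s M.A.obj W ⟶ tensPobj s (tensPobj s M.A.obj W) O :=
  mkHom (M := tensPobj s M.A.obj W) (N := tensPobj s (tensPobj s M.A.obj W) O) (fun X => twL F (isCo s M X))
    fun {X Y} φ x => twL_smap F (isCo s M X) (s.κ Y) (A.map φ).hom (s.nat φ) (isCo s M Y) (pmap M.A.obj φ)
      (pmap_smul M.A.obj φ) (rho_nat s M φ) x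

/-- `M ⊗ F` -/
def twObj (M : (GO s O).Coalgebra) : (GO s O).Coalgebra where
  A := (tensC s W).obj M.A
  a := ObjectProperty.homMk (twP s F M)
  counit := by
    apply ObjectProperty.hom_ext
    exact phom_ext fun X x => (isCo_twL F (isCo s M X)).eps x
  coassoc := by
    apply ObjectProperty.hom_ext
    exact phom_ext fun X x => (isCo_twL F (isCo s M X)).del x

/-- **the twist by `F`** -/
def tw : (GO s O).Coalgebra ⥤ (GO s O).Coalgebra where
  obj M := twObj s F M
  map {M N} f :=
    { f := (tensC s W).map f.f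
      h := by
        apply ObjectProperty.hom_ext
        refine phom_ext fun X x => ?_
        exact (twL_nat F (isCo s M X) (isCo s N X) F (lv f.f.hom X) (LinearMap.id : W →ₗ[k] W) (rho_hom s f X)
          (fun w => by rw [LinearMap.rTensor_id]; rfl) x).symm }
  map_id M := by
    apply Comonad.Coalgebra.Hom.ext'
    exact (tensC s W).map_id M.A
  map_comp f g := by
    apply Comonad.Coalgebra.Hom.ext'
    exact (tensC s W).map_comp f.f g.f

@[simp] theorem tw_obj_A (M : (GO s O).Coalgebra) : ((tw s F).obj M).A = (tensC s W).obj M.A := rfl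

@[simp] theorem tw_map_f {M N : (GO s O).Coalgebra} (f : M ⟶ N) : ((tw s F).map f).f = (tensC s W).map f.f := rfl

/-- the coaction of `M ⊗ F` at a level -/
theorem lv_tw (M : (GO s O).Coalgebra) (X : NFᵒᵖ) (x : TM (s.κ X) (M.A.obj.obj X) W) :
    lv ((tw s F).obj M).a.hom X x = twL F (isCo s M X) x := rfl

theorem lv_tw_tm (M : (GO s O).Coalgebra) (X : NFᵒᵖ) (m : M.A.obj.obj X) (w : W) :
    lv ((tw s F).obj M).a.hom X (TM.tm (s.κ X) m w) = bbL (s.κ X) (lv M.a.hom X m) (F.coact w) := rfl

/-- the underlying functor of the twist -/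
def twForget : tw s F ⋙ (GO s O).forget ≅ (GO s O).forget ⋙ tensC s W := Iso.refl _

/-- equality of morphisms of coalgebras, levelwise -/
theorem coalg_ext {M N : (GO s O).Coalgebra} {f g : M ⟶ N} (h : ∀ X m, lv f.f.hom X m = lv g.f.hom X m) : f = g := by
  apply Comonad.Coalgebra.Hom.ext'
  apply ObjectProperty.hom_ext
  exact phom_ext h

instance additive_tw [Fact (GR A)] : (tw s F).Additive where
  map_add {M N f g} := by
    apply Comonad.Coalgebra.Hom.ext'
    exact (tensC s W).map_add (f := f.f) (g := g.f)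

section Lim

variable {J : Type w} [Category.{w'} J]

instance preservesColimitsOfShape_tw [HasColimitsOfShape J (Comod A)] [PreservesColimitsOfShape J (tensC s W)] :
    PreservesColimitsOfShape J (tw s F) := by
  have : PreservesColimitsOfShape J (tw s F ⋙ (GO s O).forget) := by
    change PreservesColimitsOfShape J ((GO s O).forget ⋙ tensC s W)
    infer_instance
  exact preservesColimitsOfShape_of_reflects_of_preserves (tw s F) (GO s O).forget

instance preservesLimitsOfShape_tw [HasLimitsOfShape J (Comod A)] [PreservesLimitsOfShape J (GO s O).toFunctor]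
    [PreservesLimitsOfShape J (tensC s W)] : PreservesLimitsOfShape J (tw s F) := by
  have : PreservesLimitsOfShape J (tw s F ⋙ (GO s O).forget) := by
    change PreservesLimitsOfShape J ((GO s O).forget ⋙ tensC s W)
    infer_instance
  exact preservesLimitsOfShape_of_reflects_of_preserves (tw s F) (GO s O).forget

end Lim

instance preservesFiniteColimits_tw [HasFiniteColimits (Comod A)] [PreservesFiniteColimits (tensC s W)] :
    PreservesFiniteColimits (tw s F) where
  preservesFiniteColimits _ _ _ := inferInstance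

instance preservesFiniteLimits_tw [HasFiniteLimits (Comod A)] [PreservesFiniteLimits (GO s O).toFunctor]
    [PreservesFiniteLimits (tensC s W)] : PreservesFiniteLimits (tw s F) where
  preservesFiniteLimits _ _ _ := inferInstance

/-! functoriality in the comodule -/

/-- **functoriality in the comodule** -/
def twMap (g : W →ₗ[k] W') (hg : ∀ w, F'.coact (g w) = g.rTensor O (F.coact w)) : tw s F ⟶ tw s F' where
  app M :=
    { f := (tensMap s g).app M.A
      h := by
        apply ObjectProperty.hom_ext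
        refine phom_ext fun X x => ?_
        refine (twL_nat F (isCo s M X) (isCo s M X) F' LinearMap.id g (fun m => ?_) hg x).symm
        have e := map_eq (s.κ X) (LinearMap.id : M.A.obj.obj X →ₗ[A.obj X] M.A.obj.obj X) (LinearMap.id : O →ₗ[k] O)
          (rho s M X m)
        refine Eq.trans ?_ e.symm
        let _ : Module k (M.A.obj.obj X) := Module.compHom (M.A.obj.obj X) (s.κ X)
        exact (LinearMap.congr_fun (TensorProduct.map_id (R := k) (M := M.A.obj.obj X) (N := O))
          (rho s M X m)).symm }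
  naturality M N f := by
    apply Comonad.Coalgebra.Hom.ext'
    exact (tensMap s g).naturality f.f

@[simp] theorem twMap_app_f (g : W →ₗ[k] W') (hg : ∀ w, F'.coact (g w) = g.rTensor O (F.coact w))
    (M : (GO s O).Coalgebra) : ((twMap s F F' g hg).app M).f = (tensMap s g).app M.A := rfl

theorem lv_twMap_tm (g : W →ₗ[k] W') (hg : ∀ w, F'.coact (g w) = g.rTensor O (F.coact w))
    (M : (GO s O).Coalgebra) (X : NFᵒᵖ) (m : M.A.obj.obj X) (w : W) :
    lv ((twMap s F F' g hg).app M).f.hom X (TM.tm (s.κ X) m w) = TM.tm (s.κ X) m (g w) :=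
  tensPmap_tm s (𝟙 M.A.obj) g X m w

/-- equality of morphisms out of `M ⊗ F`, on pure tensors -/
theorem tw_ext {M N : (GO s O).Coalgebra} {f g : (tw s F).obj M ⟶ N}
    (h : ∀ X (m : M.A.obj.obj X) (w : W), lv f.f.hom X (TM.tm (s.κ X) m w) = lv g.f.hom X (TM.tm (s.κ X) m w)) :
    f = g := by
  apply Comonad.Coalgebra.Hom.ext'
  apply ObjectProperty.hom_ext
  exact tens_ext s h

theorem twMap_id (hg : ∀ w, F.coact ((LinearMap.id : W →ₗ[k] W) w) = (LinearMap.id : W →ₗ[k] W).rTensor O (F.coact w)) :
    twMap s F F LinearMap.id hg = 𝟙 (tw s F) := by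
  ext M : 2
  exact tw_ext s F fun X m w => lv_twMap_tm s F F LinearMap.id hg M X m w

theorem twMap_comp (g : W →ₗ[k] W') (hg : ∀ w, F'.coact (g w) = g.rTensor O (F.coact w))
    (g' : W' →ₗ[k] W'') (hg' : ∀ w, F''.coact (g' w) = g'.rTensor O (F'.coact w))
    (hgg : ∀ w, F''.coact ((g' ∘ₗ g) w) = (g' ∘ₗ g).rTensor O (F.coact w)) :
    twMap s F F' g hg ≫ twMap s F' F'' g' hg' = twMap s F F'' (g' ∘ₗ g) hgg := by
  ext M : 2
  refine tw_ext s F fun X m w => ?_
  refine (congrArg (lv ((twMap s F' F'' g' hg').app M).f.hom X) (lv_twMap_tm s F F' g hg M X m w)).trans ?_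
  exact (lv_twMap_tm s F' F'' g' hg' M X m (g w)).trans (lv_twMap_tm s F F'' (g' ∘ₗ g) hgg M X m w).symm

end Bi

section Hopf

variable {O : Type u} [CommRing O] [HopfAlgebra k O]

/-- the shear, as an isomorphism in `Comod A` -/
def shC (M : (GO s O).Coalgebra) : (tensC s O).obj M.A ≅ (tensC s O).obj M.A where
  hom := ObjectProperty.homMk (mkHom (M := tensPobj s M.A.obj O) (N := tensPobj s M.A.obj O)
    (fun X => shL (isCo s M X)) fun {X Y} φ x => shL_smap (isCo s M X) (s.κ Y) (A.map φ).hom (s.nat φ) (isCo s M Y)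
      (pmap M.A.obj φ) (pmap_smul M.A.obj φ) (rho_nat s M φ) x)
  inv := ObjectProperty.homMk (mkHom (M := tensPobj s M.A.obj O) (N := tensPobj s M.A.obj O)
    (fun X => (shE (isCo s M X)).symm.toLinearMap) fun {X Y} φ x => shE_symm_smap (isCo s M X) (s.κ Y) (A.map φ).hom
      (s.nat φ) (isCo s M Y) (pmap M.A.obj φ) (pmap_smul M.A.obj φ) (rho_nat s M φ) x)
  hom_inv_id := by
    apply ObjectProperty.hom_ext
    exact phom_ext fun X x => (shE (isCo s M X)).symm_apply_apply x
  inv_hom_id := by
    apply ObjectProperty.hom_ext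
    exact phom_ext fun X x => (shE (isCo s M X)).apply_symm_apply x

/-- **the shear**: `M ⊗ O = Ind M` -/
def sigmaObj (M : (GO s O).Coalgebra) :
    (tw s (HopfRep.Comod.regular k O)).obj M ≅ (GO s O).cofree.obj M.A :=
  Comonad.Coalgebra.isoMk (shC s M) (by
    apply ObjectProperty.hom_ext
    exact phom_ext fun X x => (shL_hom (isCo s M X) x).symm)

/-- **the shear**: `(- ⊗ O) ≅ forget ⋙ cofree` -/
def sigma : tw s (HopfRep.Comod.regular k O) ≅ (GO s O).forget ⋙ (GO s O).cofree :=
  NatIso.ofComponents (fun M => sigmaObj s M) fun {M N} f => by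
    apply Comonad.Coalgebra.Hom.ext'
    apply ObjectProperty.hom_ext
    exact phom_ext fun X x => shL_nat (isCo s M X) (isCo s N X) (lv f.f.hom X) (rho_hom s f X) x

theorem lv_sigma (M : (GO s O).Coalgebra) (X : NFᵒᵖ) (x : TM (s.κ X) (M.A.obj.obj X) O) :
    lv ((sigma s).hom.app M).f.hom X x = shL (isCo s M X) x := rfl

/-- the shear commutes with the counits -/
theorem sigma_eps (M : (GO s O).Coalgebra) :
    ((sigma s).hom.app M).f ≫ (GO s O).ε.app M.A = (GO s O).ε.app M.A := by
  apply ObjectProperty.hom_ext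
  exact phom_ext fun X x => epsL_shL (isCo s M X) x

end Hopf

end Groth.Agent.ResProp.EF.K5

end
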